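import Mathlib
import Groth.Agent.Lib.Unram.AtPrime

/-!
# Integral closure of a Dedekind domain in an étale algebra over its fraction field
-/

set_option autoImplicit false
universe u

open scoped nonZeroDivisors

namespace Groth.Agent.Lib.NeronEtale.Closure

variable (R K A : Type u) [CommRing R] [IsDedekindDomain R] [Field K] [Algebra R K] [IsFractionRing R K]
  [CommRing A] [Algebra K A] [Algebra R A] [IsScalarTower R K A] [Algebra.Etale K A]

include K

/-- The decomposition of an étale algebra, with the induced maps of integral closures. -/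
theorem exists_factors :
    ∃ (I : Type u) (_ : Finite I) (L : I → Type u) (_ : ∀ i, Field (L i)) (_ : ∀ i, Algebra R (L i))
      (_ : ∀ i, IsDedekindDomain (integralClosure R (L i))) (_ : ∀ i, Module.Finite R (integralClosure R (L i)))
      (ψ : ∀ i, integralClosure R A →ₐ[R] integralClosure R (L i)),
      (∀ i, Function.Injective (algebraMap R (integralClosure R (L i)))) ∧
      (∀ x, (∀ i, ψ i x = 0) → x = 0) ∧ (∀ i y, ∃ x, ψ i x = y ∧ ∀ j, j ≠ i → ψ j x = 0) := by
  classical
  obtain ⟨I, hI, L, hL, hKL, e, hsep⟩ :=
    (Algebra.FormallyEtale.iff_exists_algEquiv_prod K A).mp inferInstance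
  let hRL : ∀ i, Algebra R (L i) := fun i => ((algebraMap K (L i)).comp (algebraMap R K)).toAlgebra
  have htow : ∀ i, IsScalarTower R K (L i) := fun i => IsScalarTower.of_algebraMap_eq fun _ => rfl
  have hfin : Module.Finite K A := Algebra.FormallyUnramified.finite_of_free K A
  have hfd : ∀ i, FiniteDimensional K (L i) := fun i =>
    Module.Finite.of_surjective ((Pi.evalAlgHom K L i).comp e.toAlgHom).toLinearMap
      (fun y => ⟨e.symm (Pi.single i y), by simp⟩)
  let ψ₀ : ∀ i, A →ₐ[R] L i := fun i => ((Pi.evalAlgHom K L i).comp e.toAlgHom).restrictScalars R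
  let ψ : ∀ i, integralClosure R A →ₐ[R] integralClosure R (L i) := fun i =>
    ((ψ₀ i).comp (integralClosure R A).val).codRestrict _ fun x => x.2.map (ψ₀ i)
  have hψ : ∀ i (x : integralClosure R A), (ψ i x : L i) = e (x : A) i := fun i x => rfl
  refine ⟨I, hI, L, hL, hRL, fun i => integralClosure.isDedekindDomain R K (L i),
    fun i => IsIntegralClosure.finite R K (L i) (integralClosure R (L i)), ψ, fun i r r' h => ?_,
    fun x h => ?_, fun i y => ?_⟩
  · exact IsFractionRing.injective R K ((algebraMap K (L i)).injective (congrArg Subtype.val h))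
  · refine Subtype.ext (e.injective (funext fun i => ?_))
    rw [← hψ, h i]
    simp
  · have hx : IsIntegral R (e.symm (Pi.single i (y : L i))) := by
      obtain ⟨p, hp, hpy⟩ := y.2
      refine ⟨p * Polynomial.X, hp.mul Polynomial.monic_X, ?_⟩
      change Polynomial.aeval (e.symm (Pi.single i (y : L i))) (p * Polynomial.X) = 0
      refine e.injective (funext fun j => ?_)
      rw [map_zero, Pi.zero_apply]
      change ψ₀ j _ = 0
      rw [← Polynomial.aeval_algHom_apply]
      change Polynomial.aeval (e (e.symm (Pi.single i (y : L i))) j) _ = 0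
      rw [AlgEquiv.apply_symm_apply, map_mul, Polynomial.aeval_X]
      by_cases hj : j = i
      · subst hj
        rw [Pi.single_eq_same]
        exact mul_eq_zero_of_left hpy _
      · rw [Pi.single_eq_of_ne hj, mul_zero]
    refine ⟨⟨_, hx⟩, Subtype.ext ?_, fun j hj => Subtype.ext ?_⟩
    · rw [hψ]; simp
    · rw [hψ]; simp [Pi.single_eq_of_ne hj]

/-- The integral closure is finite. -/
theorem finite : Module.Finite R (integralClosure R A) := by
  obtain ⟨I, hI, L, _, _, _, hfin, ψ, -, hinj, -⟩ := exists_factors R K A
  let f : integralClosure R A →ₗ[R] ∀ i, integralClosure R (L i) :=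
    LinearMap.pi fun i => (ψ i).toLinearMap
  have hf : Function.Injective f :=
    (injective_iff_map_eq_zero f).mpr fun x hx => hinj x fun i => congrFun hx i
  have := isNoetherian_of_injective f hf
  exact Module.IsNoetherian.finite R _

omit [Algebra.Etale K A] in
/-- The integral closure is flat. -/
theorem flat : Module.Flat R (integralClosure R A) := by
  rw [IsDedekindDomain.flat_iff_torsion_eq_bot, eq_bot_iff]
  intro x hx
  obtain ⟨⟨r, hr⟩, hrx⟩ := (Submodule.mem_torsion_iff _).mp hx
  have h : r • (x : A) = 0 := congrArg Subtype.val hrx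
  rw [Algebra.smul_def, IsScalarTower.algebraMap_apply R K A] at h
  have hu : IsUnit (algebraMap R K r) := IsLocalization.map_units K ⟨r, hr⟩
  exact Submodule.mem_bot R |>.mpr (Subtype.ext ((hu.map _).mul_right_eq_zero.mp h))

/-- The algebra is the generic localisation of the integral closure. -/
theorem isLocalization :
    IsLocalization (Algebra.algebraMapSubmonoid (integralClosure R A) R⁰) A := by
  have hfin : Module.Finite K A := Algebra.FormallyUnramified.finite_of_free K A
  refine ⟨?_, fun z => ?_, fun {x y} h => ⟨1, by rw [Subtype.ext h]⟩⟩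
  · rintro ⟨_, r, hr, rfl⟩
    rw [← IsScalarTower.algebraMap_apply, IsScalarTower.algebraMap_apply R K A]
    exact (IsLocalization.map_units K ⟨r, hr⟩).map _
  · have hz : IsIntegral K z := Algebra.IsIntegral.isIntegral z
    obtain ⟨⟨r, hr⟩, hrz⟩ := hz.exists_multiple_integral_of_isLocalization R⁰ z
    refine ⟨⟨⟨_, hrz⟩, ⟨algebraMap R _ r, r, hr, rfl⟩⟩, ?_⟩
    show z * algebraMap (integralClosure R A) A (algebraMap R _ r) = _
    rw [← IsScalarTower.algebraMap_apply, mul_comm, ← Algebra.smul_def]
    rfl

/-- Local rings of the integral closure over nonzero primes are discrete valuation rings. -/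
theorem isDiscreteValuationRing (q : Ideal (integralClosure R A)) [q.IsPrime]
    (hq : q.comap (algebraMap R _) ≠ ⊥) :
    ∃ _ : IsDomain (Localization.AtPrime q), IsDiscreteValuationRing (Localization.AtPrime q) := by
  classical
  obtain ⟨I, hI, L, _, _, hded, -, ψ, hRinj, hinj, hsurj⟩ := exists_factors R K A
  have := Fintype.ofFinite I
  obtain ⟨i, -, hi⟩ : ∃ i ∈ (Finset.univ : Finset I), RingHom.ker (ψ i).toRingHom ≤ q := by
    refine (Ideal.IsPrime.inf_le' ‹q.IsPrime›).mp fun x hx => ?_
    rw [hinj x fun i => (Submodule.mem_finsetInf.mp hx) i (Finset.mem_univ _)]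
    exact zero_mem q
  obtain ⟨ei, hei, hei'⟩ := hsurj i 1
  have heiq : ei ∉ q := fun h => by
    have h1 : (1 : integralClosure R A) - ei ∈ q := hi (by simp [RingHom.mem_ker, hei])
    exact Ideal.IsPrime.ne_top ‹_› ((Ideal.eq_top_iff_one q).mpr (by simpa using add_mem h1 h))
  let f : integralClosure R A →+* integralClosure R (L i) := (ψ i).toRingHom
  have hf : Function.Surjective f := fun y => ⟨(hsurj i y).choose, (hsurj i y).choose_spec.1⟩
  let q' := q.map f
  have hcomap : q'.comap f = q := by
    rw [Ideal.comap_map_of_surjective f hf]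
    exact sup_eq_left.mpr hi
  have : q'.IsPrime := Ideal.map_isPrime_of_surjective hf hi
  have hq' : q' ≠ ⊥ := fun h => hq (by
    rw [← hcomap, h, Ideal.comap_comap, eq_bot_iff]
    intro r hr
    rw [Ideal.mem_comap, Ideal.mem_bot] at hr
    by_contra hr0
    exact hr0 (hRinj i (((ψ i).commutes r).symm.trans (hr.trans (map_zero _).symm))))
  let Lq := Localization.AtPrime q'
  let : Algebra (integralClosure R A) Lq := ((algebraMap _ Lq).comp f).toAlgebra
  have : IsLocalization.AtPrime Lq q := by
    refine ⟨?_, fun z => ?_, fun {x y} h => ?_⟩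
    · rintro ⟨s, hs⟩
      exact IsLocalization.map_units Lq (⟨f s, fun h => hs (hcomap ▸ h)⟩ : q'.primeCompl)
    · obtain ⟨⟨a, b, hb⟩, hz⟩ := IsLocalization.surj q'.primeCompl z
      obtain ⟨a, rfl⟩ := hf a
      obtain ⟨b, rfl⟩ := hf b
      exact ⟨⟨a, b, fun h => hb (Ideal.mem_map_of_mem f h)⟩, hz⟩
    · obtain ⟨⟨c, hc⟩, hc'⟩ := IsLocalization.exists_of_eq (M := q'.primeCompl) h
      obtain ⟨c, rfl⟩ := hf c
      refine ⟨⟨c * ei, fun h => (Ideal.IsPrime.mem_or_mem ‹_› h).elim
        (fun h => hc (Ideal.mem_map_of_mem f h)) heiq⟩, ?_⟩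
      refine sub_eq_zero.mp (hinj _ fun j => ?_)
      rw [← mul_sub, map_mul, map_mul]
      by_cases hj : j = i
      · subst hj
        rw [hei, mul_one, map_sub, mul_sub, sub_eq_zero]
        exact hc'
      · rw [hei' j hj, mul_zero, zero_mul]
  let φ := (IsLocalization.algEquiv q.primeCompl (Localization.AtPrime q) Lq).toRingEquiv
  have hD : IsDiscreteValuationRing Lq :=
    IsLocalization.AtPrime.isDiscreteValuationRing_of_dedekind_domain _ hq' Lq
  have : IsDomain (Localization.AtPrime q) := φ.injective.isDomain φ.toRingHom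
  exact ⟨inferInstance, IsDiscreteValuationRing.RingEquivClass.isDiscreteValuationRing φ.symm⟩

omit [IsDedekindDomain R] in
/-- A localisation of an algebra whose generic localisation is étale over the fraction field is
formally étale. -/
theorem formallyEtale_of_le {C : Type u} [CommRing C] [Algebra R C] [Algebra C A] [IsScalarTower R C A]
    [IsLocalization (Algebra.algebraMapSubmonoid C R⁰) A] (M : Submonoid C)
    (hle : Algebra.algebraMapSubmonoid C R⁰ ≤ M) (S : Type u) [CommRing S] [Algebra C S] [Algebra R S]
    [IsScalarTower R C S] [IsLocalization M S] : Algebra.FormallyEtale R S := by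
  let g : A →+* S := IsLocalization.lift (M := Algebra.algebraMapSubmonoid C R⁰) (S := A)
    (g := algebraMap C S) fun s => IsLocalization.map_units S (⟨s.1, hle s.2⟩ : M)
  let := g.toAlgebra
  have : IsScalarTower C A S := .of_algebraMap_eq fun x => (IsLocalization.lift_eq _ x).symm
  have : IsScalarTower R A S := .to₁₃₄ R C A S
  have : IsLocalization (Algebra.algebraMapSubmonoid A M) S :=
    .isLocalization_of_submonoid_le A S (Algebra.algebraMapSubmonoid C R⁰) M hle
  have : Algebra.FormallyEtale A S := .of_isLocalization (Algebra.algebraMapSubmonoid A M)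
  have : Algebra.FormallyEtale R K := .of_isLocalization R⁰
  have : Algebra.FormallyEtale R A := .comp R K A
  exact Algebra.FormallyEtale.comp R A S

/-- At primes over the generic point the integral closure is étale. -/
theorem isEtaleAt_generic (q : Ideal (integralClosure R A)) [q.IsPrime]
    (hq : q.comap (algebraMap R _) = ⊥) : Algebra.IsEtaleAt R q := by
  have hloc := isLocalization R K A
  refine formallyEtale_of_le R K A (C := integralClosure R A) q.primeCompl ?_ (Localization.AtPrime q)
  rintro _ ⟨r, hr, rfl⟩ h
  exact nonZeroDivisors.ne_zero hr (Ideal.mem_bot.mp (hq ▸ h))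

end Groth.Agent.Lib.NeronEtale.Closure
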