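import Groth.Agent.Lib.NeronEtale.Integral
import Groth.Agent.Lib.ModelFibre.SmoothGeneric
import Groth.Agent.Lib.Unram.AtPrime
import Groth.Agent.H48.FSExtMain

/-!
# A finite normal algebra is étale at the points hit by a smooth algebra
-/

set_option autoImplicit false
universe u

open scoped nonZeroDivisors TensorProduct

namespace Groth.Agent.Lib.NeronEtale.EtaleAt

variable {R D B : Type u} [CommRing R] [IsDedekindDomain R] [CommRing D] [Algebra R D]
  [Module.Finite R D] [Algebra.FinitePresentation R D] [Module.Flat R D]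
  [CommRing B] [Algebra R B] [Algebra.Smooth R B]

/-- Closed fibres of a smooth algebra are reduced. -/
theorem isReduced_fibre (m : Ideal R) [m.IsMaximal] : IsReduced (B ⧸ m.map (algebraMap R B)) := by
  let := Ideal.Quotient.field m
  have := Groth.Agent.Lib.ModelFibre.SmoothGeneric.isGeometricallyReduced_of_smooth (R ⧸ m) ((R ⧸ m) ⊗[R] B)
  have := Algebra.isReduced_of_isGeometricallyReduced (R ⧸ m) (A := (R ⧸ m) ⊗[R] B)
  let f : B ⧸ m.map (algebraMap R B) ≃+* (R ⧸ m) ⊗[R] B :=
    (Algebra.TensorProduct.quotIdealMapEquivTensorQuot B m).toRingEquiv.trans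
      (Algebra.TensorProduct.comm R B (R ⧸ m)).toRingEquiv
  exact isReduced_of_injective f.toRingHom f.injective

/-- If the prime `q` is dominated by a prime of a smooth algebra and its local ring is a discrete
valuation ring, then the finite algebra is étale at `q`. -/
theorem isEtaleAt (φ : D →ₐ[R] B) (P : Ideal B) [P.IsPrime] (p : Ideal R) [p.IsMaximal]
    [P.LiesOver p] (hp : p ≠ ⊥)
    [IsDomain (Localization.AtPrime (P.comap φ.toRingHom))]
    [IsDiscreteValuationRing (Localization.AtPrime (P.comap φ.toRingHom))] :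
    Algebra.IsEtaleAt R (P.comap φ.toRingHom) := by
  classical
  set q := P.comap φ.toRingHom with hq
  have : q.LiesOver p := ⟨by
    rw [hq, Ideal.under_def, Ideal.comap_comap,
      show φ.toRingHom.comp (algebraMap R D) = algebraMap R B from φ.comp_algebraMap]
    exact Ideal.LiesOver.over (P := P) (p := p)⟩
  obtain ⟨π, hπp, hπ0, t, ht, hdiv⟩ := Integral.exists_local_generator p hp
  let Dq := Localization.AtPrime q
  let Q := Localization.AtPrime P
  let ψ : Dq →+* Q := Localization.localRingHom q P φ.toRingHom rfl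
  have hψ : ∀ r, ψ (algebraMap R Dq r) = algebraMap R Q r := fun r => by
    rw [IsScalarTower.algebraMap_apply R D Dq, Localization.localRingHom_to_map,
      IsScalarTower.algebraMap_apply R B Q]
    exact congrArg _ (φ.commutes r)
  have hψloc : IsLocalHom ψ := inferInstance
  have hpmax : p.map (algebraMap R Dq) ≤ IsLocalRing.maximalIdeal Dq := by
    rw [IsScalarTower.algebraMap_eq R D Dq, ← Ideal.map_map, ← Localization.AtPrime.map_eq_maximalIdeal]
    exact Ideal.map_mono (Ideal.map_le_iff_le_comap.mpr (Ideal.LiesOver.over (P := q) (p := p)).le)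
  -- `p` becomes principal, generated by `π`
  have hpπ : ∀ (S : Type u) [CommRing S] (f : R →+* S), IsUnit (f t) → ∀ x ∈ p, f π ∣ f x :=
    fun S _ f hf x hx => by
      have := map_dvd f (hdiv x hx)
      rwa [map_mul, hf.dvd_mul_left] at this
  have htD : IsUnit (algebraMap R Dq t) := by
    rw [IsScalarTower.algebraMap_apply R D Dq, IsLocalization.AtPrime.isUnit_to_map_iff Dq q]
    exact fun h => ht ((Ideal.mem_of_liesOver q p t).mpr h)
  have htQ : IsUnit (algebraMap R Q t) := by
    rw [← hψ]; exact htD.map ψ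
  obtain ⟨y, hy⟩ := IsDiscreteValuationRing.exists_irreducible Dq
  have hπne : algebraMap R Q π ≠ 0 := by
    intro h
    have h1 : (1 : Q) = 0 := Module.Flat.isSMulRegular_of_nonZeroDivisors (M := Q)
      (mem_nonZeroDivisors_of_ne_zero hπ0)
      (show π • (1 : Q) = π • (0 : Q) by rw [Algebra.smul_def, h, zero_mul, smul_zero])
    exact one_ne_zero h1
  have hπD : algebraMap R Dq π ≠ 0 := fun h => hπne (by rw [← hψ, h, map_zero])
  obtain ⟨e, w, hw⟩ := IsDiscreteValuationRing.eq_unit_mul_pow_irreducible hπD hy
  have hyQ : ¬ IsUnit (ψ y) := fun h => hy.not_isUnit ((isUnit_map_iff ψ y).mp h)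
  have hred : ∀ x : Q, ∀ k : ℕ, algebraMap R Q π ∣ x ^ k → algebraMap R Q π ∣ x := by
    intro x k hk
    obtain ⟨b, s, rfl⟩ := IsLocalization.exists_mk'_eq P.primeCompl x
    have hs : IsUnit (algebraMap B Q s) := IsLocalization.map_units Q s
    have hb : algebraMap R Q π ∣ algebraMap B Q b ^ k := by
      have h1 := dvd_mul_of_dvd_left hk (algebraMap B Q s ^ k)
      rwa [← mul_pow, IsLocalization.mk'_spec] at h1
    have hI : algebraMap B Q (b ^ k) ∈ (p.map (algebraMap R B)).map (algebraMap B Q) := by
      obtain ⟨c, hc⟩ := hb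
      rw [map_pow, hc]
      refine Ideal.mul_mem_right _ _ ?_
      rw [IsScalarTower.algebraMap_apply R B Q]
      exact Ideal.mem_map_of_mem _ (Ideal.mem_map_of_mem _ hπp)
    obtain ⟨u, hu, hmem⟩ := (IsLocalization.algebraMap_mem_map_algebraMap_iff P.primeCompl Q _ _).mp hI
    have := isReduced_fibre (B := B) p
    have hmem' : u * b ∈ p.map (algebraMap R B) := by
      rw [← Ideal.Quotient.eq_zero_iff_mem]
      rcases k with _ | k
      · rw [pow_zero, mul_one] at hmem
        exact Ideal.Quotient.eq_zero_iff_mem.mpr (Ideal.mul_mem_right _ _ hmem)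
      · refine IsReduced.eq_zero _ ⟨k + 1, ?_⟩
        rw [← map_pow, Ideal.Quotient.eq_zero_iff_mem, mul_pow, pow_succ u, mul_assoc]
        exact Ideal.mul_mem_left _ _ hmem
    have hdvd : algebraMap R Q π ∣ algebraMap B Q (u * b) := by
      have hle : p.map (algebraMap R B) ≤ (Ideal.span {algebraMap R Q π}).comap (algebraMap B Q) := by
        refine Ideal.map_le_iff_le_comap.mpr fun x hx => ?_
        rw [Ideal.mem_comap, Ideal.mem_comap, ← IsScalarTower.algebraMap_apply, Ideal.mem_span_singleton]
        exact hpπ Q _ htQ x hx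
      exact Ideal.mem_span_singleton.mp (hle hmem')
    rw [map_mul, (IsLocalization.map_units Q ⟨u, hu⟩).dvd_mul_left] at hdvd
    rw [show IsLocalization.mk' Q b s = algebraMap B Q b * ↑(hs.unit⁻¹) by
      rw [IsLocalization.mk'_eq_iff_eq_mul, mul_assoc, IsUnit.val_inv_mul, mul_one]]
    exact dvd_mul_of_dvd_left hdvd _
  have he : e = 1 := by
    rcases Nat.lt_trichotomy e 1 with h | h | h
    · obtain rfl : e = 0 := by omega
      rw [pow_zero, mul_one] at hw
      exact absurd (hpmax (Ideal.mem_map_of_mem _ hπp))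
        (fun hm => (IsLocalRing.mem_maximalIdeal _).mp hm (hw ▸ w.isUnit))
    · exact h
    · exfalso
      have h1 : algebraMap R Q π = ψ w * ψ y ^ e := by rw [← hψ, hw, map_mul, map_pow]
      obtain ⟨c, hc⟩ := hred (ψ y) e (by rw [h1, (w.isUnit.map ψ).mul_left_dvd])
      obtain ⟨j, rfl⟩ : ∃ j, e = j + 2 := ⟨e - 2, by omega⟩
      have h2 : algebraMap R Q π * (1 - ψ w * algebraMap R Q π ^ j * algebraMap R Q π * c ^ (j + 2)) = 0 := by
        rw [hc] at h1
        linear_combination h1
      have hm : algebraMap R Q π ∈ IsLocalRing.maximalIdeal Q := by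
        rw [h1]
        exact Ideal.mul_mem_left _ _ (Ideal.pow_mem_of_mem _ ((IsLocalRing.mem_maximalIdeal _).mpr hyQ) _
          (by omega))
      have hu : IsUnit (1 - ψ w * algebraMap R Q π ^ j * algebraMap R Q π * c ^ (j + 2)) :=
        IsLocalRing.isUnit_one_sub_self_of_mem_nonunits _
          ((IsLocalRing.mem_maximalIdeal _).mp (Ideal.mul_mem_right _ _ (Ideal.mul_mem_left _ _ hm)))
      exact hπne (hu.mul_left_eq_zero.mp h2)
  have hmap : p.map (algebraMap R Dq) = IsLocalRing.maximalIdeal Dq := by
    refine le_antisymm hpmax ?_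
    rw [hy.maximalIdeal_eq, Ideal.span_singleton_le_iff_mem,
      show y = ↑(w⁻¹) * algebraMap R Dq π by rw [hw, he, pow_one, ← mul_assoc, Units.inv_mul, one_mul]]
    exact Ideal.mul_mem_left _ _ (Ideal.mem_map_of_mem _ hπp)
  -- one element kills `q` modulo `p`
  have hqs : ∀ x ∈ q, ∃ s ∉ q, s * x ∈ p.map (algebraMap R D) := by
    intro x hx
    have hx' : algebraMap D Dq x ∈ (p.map (algebraMap R D)).map (algebraMap D Dq) := by
      rw [Ideal.map_map, ← IsScalarTower.algebraMap_eq, hmap, ← Localization.AtPrime.map_eq_maximalIdeal]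
      exact Ideal.mem_map_of_mem _ hx
    exact (IsLocalization.algebraMap_mem_map_algebraMap_iff q.primeCompl Dq _ _).mp hx'
  have : IsNoetherianRing D := Algebra.FiniteType.isNoetherianRing R D
  obtain ⟨g, hg⟩ := IsNoetherian.noetherian q
  choose s hs hsm using hqs
  let σ := ∏ x : g, s x.1 (hg ▸ Submodule.subset_span x.2)
  have hσ : σ ∉ q := fun h => by
    obtain ⟨x, -, hx⟩ := (Ideal.IsPrime.prod_mem_iff.mp h)
    exact hs _ _ hx
  have hσq : ∀ x ∈ q, σ * x ∈ p.map (algebraMap R D) := by
    intro x hx
    rw [← hg] at hx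
    induction hx using Submodule.span_induction with
    | mem x hx =>
      obtain ⟨d, hd⟩ : s x (hg ▸ Submodule.subset_span hx) ∣ σ :=
        Finset.dvd_prod_of_mem (fun y : g => s y.1 (hg ▸ Submodule.subset_span y.2))
          (Finset.mem_univ (⟨x, hx⟩ : g))
      rw [hd, mul_comm _ d, mul_assoc]
      exact Ideal.mul_mem_left _ _ (hsm x _)
    | zero => simp
    | add a b _ _ ha hb => rw [mul_add]; exact add_mem ha hb
    | smul a b _ hb => rw [smul_eq_mul, mul_left_comm]; exact Ideal.mul_mem_left _ _ hb
  -- the residue extension is separable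
  let B' := Localization.Away (φ σ)
  let := Localization.AtPrime.algebraOfLiesOver p q
  let := Localization.AtPrime.algebraOfLiesOver p P
  let k := p.ResidueField
  have : Algebra.Smooth B B' := { formallySmooth := Algebra.FormallySmooth.of_isLocalization (Submonoid.powers (φ σ)), finitePresentation := IsLocalization.Away.finitePresentation (φ σ) }
  have : Algebra.Smooth R B' := Algebra.Smooth.comp R B B'
  have := Groth.Agent.Lib.ModelFibre.SmoothGeneric.isGeometricallyReduced_of_smooth k (k ⊗[R] B')
  let ι : D →ₐ[R] k ⊗[R] B' :=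
    (Algebra.TensorProduct.includeRight).comp ((IsScalarTower.toAlgHom R B B').comp φ)
  have : q.IsMaximal := Ideal.isMaximal_of_isIntegral_of_isMaximal_comap (R := R) q
    (by rw [← Ideal.under_def, ← Ideal.LiesOver.over (P := q) (p := p)]; infer_instance)
  have hι : ∀ x ∈ q, ι.toRingHom x = 0 := by
    intro x hx
    have hu : IsUnit (ι σ) := (IsLocalization.Away.algebraMap_isUnit (S := B') (φ σ)).map
      Algebra.TensorProduct.includeRight
    refine hu.mul_right_eq_zero.mp ?_
    show ι σ * ι x = 0
    rw [← map_mul]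
    have hle : p.map (algebraMap R D) ≤ RingHom.ker ι := Ideal.map_le_iff_le_comap.mpr fun r hr => by
      rw [Ideal.mem_comap, RingHom.mem_ker, AlgHom.commutes, Algebra.TensorProduct.algebraMap_apply,
        Ideal.algebraMap_residueField_eq_zero.mpr hr, TensorProduct.zero_tmul]
    exact hle (hσq x hx)
  let g₀ : q.ResidueField →+* k ⊗[R] B' := (Ideal.Quotient.lift q ι.toRingHom hι).comp
    (RingEquiv.ofBijective (algebraMap (D ⧸ q) q.ResidueField)
      (Ideal.bijective_algebraMap_quotient_residueField q)).symm.toRingHom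
  have hg₀ : ∀ d : D, g₀ (algebraMap D q.ResidueField d) = ι d := fun d => by
    change Ideal.Quotient.lift q ι.toRingHom hι ((RingEquiv.ofBijective _ _).symm _) = _
    rw [← Ideal.algebraMap_quotient_residueField_mk]
    exact (congrArg (Ideal.Quotient.lift q ι.toRingHom hι)
      ((RingEquiv.ofBijective (algebraMap (D ⧸ q) q.ResidueField)
        (Ideal.bijective_algebraMap_quotient_residueField q)).symm_apply_apply (Ideal.Quotient.mk q d))).trans rfl
  let gk : q.ResidueField →ₐ[k] k ⊗[R] B' :=
    { g₀ with
      commutes' := fun c => by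
        obtain ⟨r, rfl⟩ := p.algebraMap_residueField_surjective c
        show g₀ _ = _
        rw [← IsScalarTower.algebraMap_apply, ← IsScalarTower.algebraMap_apply,
          IsScalarTower.algebraMap_apply R D q.ResidueField, hg₀, AlgHom.commutes] }
  have : Nontrivial (k ⊗[R] B') := by
    have hu : IsUnit (algebraMap B P.ResidueField (φ σ)) :=
      isUnit_iff_ne_zero.mpr fun h => hσ (show φ σ ∈ P from Ideal.algebraMap_residueField_eq_zero.mp h)
    let f1 : B' →ₐ[R] P.ResidueField :=
      { IsLocalization.Away.lift (S := B') (φ σ) (g := algebraMap B P.ResidueField) hu with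
        commutes' := fun r => by
          show IsLocalization.Away.lift (φ σ) hu (algebraMap R B' r) = _
          rw [IsScalarTower.algebraMap_apply R B B', IsLocalization.Away.lift_eq,
            ← IsScalarTower.algebraMap_apply] }
    exact (Algebra.TensorProduct.lift (IsScalarTower.toAlgHom R k P.ResidueField) f1
      fun _ _ => .all _ _).toRingHom.domain_nontrivial
  have : Algebra.IsGeometricallyReduced k q.ResidueField :=
    Algebra.IsGeometricallyReduced.of_injective gk gk.toRingHom.injective
  have : Algebra.IsIntegral R q.ResidueField := by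
    refine ⟨fun z => ?_⟩
    obtain ⟨d, rfl⟩ := q.algebraMap_residueField_surjective z
    exact (Algebra.IsIntegral.isIntegral d).map (IsScalarTower.toAlgHom R D q.ResidueField)
  have : Algebra.IsIntegral k q.ResidueField := Algebra.IsIntegral.tower_top R
  have hsep := Groth.Agent.H48.FSExt.isSeparable_of_geomRed k q.ResidueField
  rw [Groth.Agent.Lib.Unram.AtPrime.isEtaleAt_iff]
  exact ⟨Module.Flat.trans R D _, (Algebra.isUnramifiedAt_iff_map_eq R p q).mpr ⟨hsep, hmap⟩⟩

end Groth.Agent.Lib.NeronEtale.EtaleAt
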