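import Mathlib

/-!
# Elements integral over a Dedekind base in a flat algebra with reduced fibres
-/

set_option autoImplicit false
universe u

open scoped nonZeroDivisors

namespace Groth.Agent.Lib.NeronEtale.Integral

variable {R : Type u} [CommRing R] [IsDedekindDomain R]

/-- Locally at a maximal ideal, the ideal is generated by any element outside its square. -/
theorem exists_local_generator (m : Ideal R) [m.IsMaximal] (hm : m ≠ ⊥) :
    ∃ π ∈ m, π ≠ 0 ∧ ∃ t, t ∉ m ∧ ∀ x ∈ m, π ∣ t * x := by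
  obtain ⟨π, hπ, hπ2⟩ : ∃ π ∈ m, π ∉ m ^ 2 :=
    SetLike.exists_of_lt (lt_of_le_of_ne (Ideal.pow_le_self two_ne_zero) fun h => by
      have h1 : m * m = m * ⊤ := by rw [← pow_two, Ideal.mul_top]; exact h
      exact Ideal.IsMaximal.ne_top ‹_› (mul_left_cancel₀ hm h1))
  refine ⟨π, hπ, fun h0 => hπ2 (h0 ▸ zero_mem _), ?_⟩
  obtain ⟨I, hI⟩ := Ideal.dvd_iff_le.mpr ((Ideal.span_singleton_le_iff_mem (I := m)).mpr hπ)
  obtain ⟨t, htI, htm⟩ : ∃ t ∈ I, t ∉ m := by
    by_contra h
    push Not at h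
    refine hπ2 ?_
    rw [pow_two, ← Ideal.span_singleton_le_iff_mem, hI]
    exact Ideal.mul_mono le_rfl h
  refine ⟨t, htm, fun x hx => Ideal.mem_span_singleton.mp ?_⟩
  rw [hI, mul_comm t x]
  exact Ideal.mul_mem_mul hx htI

variable {B T : Type u} [CommRing B] [Algebra R B] [CommRing T] [Algebra B T] [Algebra R T]
  [IsScalarTower R B T]

/-- An element integral over `R` in the generic localisation of a flat algebra with reduced closed
fibres lies in the algebra. -/
theorem exists_of_isIntegral [Module.Flat R B]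
    (hred : ∀ m : Ideal R, m.IsMaximal → IsReduced (B ⧸ m.map (algebraMap R B)))
    [IsLocalization (Algebra.algebraMapSubmonoid B R⁰) T] {z : T} (hz : IsIntegral R z) :
    ∃ b, algebraMap B T b = z := by
  have hnzd : Algebra.algebraMapSubmonoid B R⁰ ≤ B⁰ := by
    rintro _ ⟨r, hr, rfl⟩
    rw [mem_nonZeroDivisors_iff_right]
    intro x hx
    exact Module.Flat.isSMulRegular_of_nonZeroDivisors (M := B) hr
      (show r • x = r • 0 by rw [Algebra.smul_def, mul_comm, smul_zero]; exact hx)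
  have hinj : Function.Injective (algebraMap B T) := IsLocalization.injective T hnzd
  let N : Submodule R T := LinearMap.range (IsScalarTower.toAlgHom R B T).toLinearMap
  let J : T → Ideal R := fun w => N.comap (LinearMap.toSpanSingleton R T w)
  have hJ : ∀ r w, r ∈ J w ↔ ∃ b, algebraMap B T b = r • w := fun r w => Iff.rfl
  by_contra hno
  have hne : J z ≠ ⊤ := fun h => hno (by
    obtain ⟨b, hb⟩ := (hJ 1 z).mp (h ▸ Submodule.mem_top)
    exact ⟨b, by rwa [one_smul] at hb⟩)
  obtain ⟨_, ⟨r, rfl, hrne⟩, hmax⟩ := set_has_maximal_iff_noetherian.mpr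
    (inferInstance : IsNoetherian R R) {P : Ideal R | ∃ r : R, J (r • z) = P ∧ J (r • z) ≠ ⊤}
    ⟨_, 1, rfl, by rwa [one_smul]⟩
  set w := r • z with hw
  have hprime : (J w).IsPrime := by
    refine ⟨hrne, fun {a b} hab => or_iff_not_imp_right.mpr fun hb => ?_⟩
    have h1 : J (b • w) ≠ ⊤ := fun h => hb (by
      obtain ⟨c, hc⟩ := (hJ 1 _).mp (h ▸ Submodule.mem_top)
      exact (hJ b w).mpr ⟨c, by rwa [one_smul] at hc⟩)
    have hle : J w ≤ J (b • w) := fun s hs => by
      obtain ⟨c, hc⟩ := (hJ s w).mp hs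
      exact (hJ s _).mpr ⟨b • c, by rw [Algebra.smul_def, map_mul, hc,
        ← IsScalarTower.algebraMap_apply, ← Algebra.smul_def, smul_comm]⟩
    have hnlt := hmax (J (b • w)) ⟨b * r, by rw [mul_smul, ← hw], by rwa [mul_smul, ← hw]⟩
    have heq : J (b • w) = J w := le_antisymm
      (by_contra fun h => hnlt (lt_of_le_not_ge hle h)) hle
    refine heq.le ((hJ a _).mpr ?_)
    obtain ⟨c, hc⟩ := (hJ (a * b) w).mp hab
    exact ⟨c, by rw [hc, mul_smul]⟩
  have hw_int : IsIntegral R w := hz.smul r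
  have hne0 : J w ≠ ⊥ := by
    obtain ⟨⟨b, ⟨_, s, hs, rfl⟩⟩, hb⟩ := IsLocalization.surj (Algebra.algebraMapSubmonoid B R⁰) w
    refine fun h => nonZeroDivisors.ne_zero hs ((Submodule.eq_bot_iff _).mp h s ((hJ s w).mpr ⟨b, ?_⟩))
    rw [← hb, Algebra.smul_def, mul_comm, ← IsScalarTower.algebraMap_apply]
  have hmx : (J w).IsMaximal := hprime.isMaximal hne0
  obtain ⟨π, hπ, hπ0, t, ht, hdiv⟩ := exists_local_generator (J w) hne0
  obtain ⟨b, hb⟩ := (hJ π w).mp hπ
  -- `b` is nilpotent modulo the fibre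
  obtain ⟨p, hp, hpw⟩ := hw_int
  have hb0 : Polynomial.aeval b (p.scaleRoots π) = 0 := hinj (by
    rw [← Polynomial.aeval_algebraMap_apply, map_zero, hb, Algebra.smul_def]
    exact Polynomial.scaleRoots_aeval_eq_zero hpw)
  let I := (J w).map (algebraMap R B)
  have hbI : b ∈ I := by
    have := hred (J w) hmx
    rw [← Ideal.Quotient.eq_zero_iff_mem]
    refine IsReduced.eq_zero _ ⟨p.natDegree, ?_⟩
    have h := congrArg (Ideal.Quotient.mk I) hb0
    rw [Polynomial.aeval_eq_sum_range, Polynomial.natDegree_scaleRoots, map_sum, map_zero,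
      Finset.sum_range_succ] at h
    rw [← map_pow, ← h, Finset.sum_eq_zero fun i hi => ?_, zero_add,
      Polynomial.coeff_scaleRoots_natDegree, hp.leadingCoeff, one_smul]
    rw [Ideal.Quotient.eq_zero_iff_mem, Algebra.smul_def]
    refine Ideal.mul_mem_right _ _ (Ideal.mem_map_of_mem _ ?_)
    rw [Polynomial.coeff_scaleRoots]
    exact Ideal.mul_mem_left _ _ (Ideal.pow_mem_of_mem _ hπ _
      (Nat.sub_pos_of_lt (Finset.mem_range.mp hi)))
  have htb : algebraMap R B π ∣ algebraMap R B t * b := by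
    have hle : I ≤ (Ideal.span {algebraMap R B π} : Ideal B).colon (Ideal.span {algebraMap R B t}) := by
      refine Ideal.map_le_iff_le_comap.mpr fun x hx => ?_
      rw [Ideal.mem_comap, Submodule.mem_colon]
      intro y hy
      obtain ⟨y, rfl⟩ := Ideal.mem_span_singleton.mp hy
      rw [Ideal.mem_span_singleton, smul_eq_mul, ← mul_assoc, ← map_mul, mul_comm x t]
      exact dvd_mul_of_dvd_left (map_dvd _ (hdiv x hx)) _
    have h1 := Submodule.mem_colon.mp (hle hbI) _ (Ideal.mem_span_singleton_self _)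
    rw [Ideal.mem_span_singleton, smul_eq_mul, mul_comm] at h1
    exact h1
  obtain ⟨b', hb'⟩ := htb
  refine ht ((hJ t w).mpr ⟨b', ?_⟩)
  have hu : IsUnit (algebraMap B T (algebraMap R B π)) :=
    IsLocalization.map_units T (M := Algebra.algebraMapSubmonoid B R⁰)
      ⟨algebraMap R B π, Algebra.mem_algebraMapSubmonoid_of_mem ⟨π, mem_nonZeroDivisors_of_ne_zero hπ0⟩⟩
  refine hu.mul_left_cancel ?_
  rw [← map_mul, ← hb', map_mul, hb, ← IsScalarTower.algebraMap_apply, ← IsScalarTower.algebraMap_apply,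
    Algebra.smul_def, Algebra.smul_def, mul_left_comm]

end Groth.Agent.Lib.NeronEtale.Integral
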