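import Groth.Agent.Lib.NeronEtale.EtaleAt

/-!
# Extension of generic morphisms into a finite normal scheme
-/

set_option autoImplicit false
universe u

open CategoryTheory CategoryTheory.Limits AlgebraicGeometry
open scoped nonZeroDivisors TensorProduct

namespace Groth.Agent.Lib.NeronEtale.Mapping

variable {R : Type u} [CommRing R] [IsDedekindDomain R] (K : Type u) [Field K] [Algebra R K]
  [IsFractionRing R K] {C : Type u} [CommRing C] [Algebra R C]

local notation "sK" => Spec.map (CommRingCat.ofHom (algebraMap R K))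
local notation "sC" => Spec.map (CommRingCat.ofHom (algebraMap R C))

omit [IsDedekindDomain R] in
/-- A flat algebra injects into its generic localisation. -/
theorem injective_includeLeft {B : Type u} [CommRing B] [Algebra R B] [Module.Flat R B] :
    Function.Injective (algebraMap B (B ⊗[R] K)) := by
  refine IsLocalization.injective (M := Algebra.algebraMapSubmonoid B R⁰) (B ⊗[R] K) ?_
  rintro _ ⟨r, hr, rfl⟩
  rw [mem_nonZeroDivisors_iff_right]
  intro x hx
  exact Module.Flat.isSMulRegular_of_nonZeroDivisors (M := B) hr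
    (show r • x = r • 0 by rw [Algebra.smul_def, mul_comm, smul_zero]; exact hx)

/-- The affine case. -/
theorem existsUnique_affine [Algebra.IsIntegral R C] {B : CommRingCat.{u}}
    (q : Spec B ⟶ Spec (CommRingCat.of R)) (hq : Smooth q)
    (v : pullback q sK ⟶ Spec (CommRingCat.of C)) (hv : v ≫ sC = pullback.fst q sK ≫ q) :
    ∃! g : Spec B ⟶ Spec (CommRingCat.of C), g ≫ sC = q ∧ pullback.fst q sK ≫ g = v := by
  obtain ⟨f, rfl⟩ := Spec.map_surjective q
  have hsm : f.hom.Smooth := (HasRingHomProperty.Spec_iff (P := @Smooth)).mp hq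
  algebraize [f.hom]
  let e := pullbackSpecIso R B K
  obtain ⟨h, hh⟩ := Spec.map_surjective (R := CommRingCat.of C) (S := CommRingCat.of ((B : Type u) ⊗[R] K))
    (e.inv ≫ v)
  have hfst : e.inv ≫ pullback.fst (Spec.map f) sK =
      Spec.map (CommRingCat.ofHom (algebraMap B ((B : Type u) ⊗[R] K))) :=
    pullbackSpecIso_inv_fst' R B K
  have hstr : ∀ r, h.hom (algebraMap R C r) = algebraMap R ((B : Type u) ⊗[R] K) r := by
    have e1 : CommRingCat.ofHom (algebraMap R C) ≫ h =
        f ≫ CommRingCat.ofHom (algebraMap B ((B : Type u) ⊗[R] K)) := by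
      apply Spec.map_injective
      rw [Spec.map_comp, Spec.map_comp, hh, ← hfst, Category.assoc, hv, Category.assoc]
    intro r
    exact congr(($e1).hom r)
  have hred : ∀ m : Ideal R, m.IsMaximal → IsReduced ((B : Type u) ⧸ m.map (algebraMap R B)) :=
    fun m _ => EtaleAt.isReduced_fibre m
  have hlift : ∀ c : C, ∃ b : B, algebraMap B ((B : Type u) ⊗[R] K) b = h.hom c := fun c =>
    Integral.exists_of_isIntegral (T := (B : Type u) ⊗[R] K) hred
      ((Algebra.IsIntegral.isIntegral (R := R) c).map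
        ({ h.hom with commutes' := hstr } : C →ₐ[R] (B : Type u) ⊗[R] K))
  choose φ hφ using hlift
  have hinj := injective_includeLeft K (R := R) (B := B)
  let φ' : C →+* B :=
    { toFun := φ
      map_one' := hinj (by rw [hφ, map_one, map_one])
      map_mul' := fun a b => hinj (by rw [hφ, map_mul, map_mul, hφ, hφ])
      map_zero' := hinj (by rw [hφ, map_zero, map_zero])
      map_add' := fun a b => hinj (by rw [hφ, map_add, map_add, hφ, hφ]) }
  refine ⟨Spec.map (CommRingCat.ofHom φ'), ⟨?_, ?_⟩, ?_⟩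
  · rw [← Spec.map_comp]
    congr 1
    ext r
    refine hinj ?_
    show algebraMap B _ (φ (algebraMap R C r)) = algebraMap B _ (f.hom r)
    rw [hφ, hstr]
    rfl
  · rw [← cancel_epi e.inv, reassoc_of% hfst, ← Spec.map_comp, ← hh]
    congr 1
    ext c
    exact hφ c
  · rintro g ⟨-, hg⟩
    obtain ⟨g', rfl⟩ := Spec.map_surjective g
    congr 1
    ext c
    refine hinj ?_
    show algebraMap B _ (g'.hom c) = algebraMap B _ (φ c)
    rw [hφ]
    have e1 : g' ≫ CommRingCat.ofHom (algebraMap B ((B : Type u) ⊗[R] K)) = h := by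
      apply Spec.map_injective
      rw [Spec.map_comp, hh, ← hfst, Category.assoc, hg]
    exact congr(($e1).hom c)

variable {X : Scheme.{u}} (p : X ⟶ Spec (CommRingCat.of R)) [Smooth p]

/-- Uniqueness on a chart. -/
theorem chart_ext [Algebra.IsIntegral R C] {B : CommRingCat.{u}} (j : Spec B ⟶ X) (hj : IsOpenImmersion j)
    {g g' : X ⟶ Spec (CommRingCat.of C)} (hg : g ≫ sC = p) (hg' : g' ≫ sC = p)
    (h : pullback.fst p sK ≫ g = pullback.fst p sK ≫ g') : j ≫ g = j ≫ g' := by
  let m : pullback (j ≫ p) sK ⟶ pullback p sK :=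
    pullback.map _ _ _ _ j (𝟙 _) (𝟙 _) (by simp) (by simp)
  have hm : m ≫ pullback.fst p sK = pullback.fst (j ≫ p) sK ≫ j := pullback.lift_fst _ _ _
  refine (existsUnique_affine K (j ≫ p) inferInstance
    (m ≫ pullback.fst p sK ≫ g) ?_).unique ⟨?_, ?_⟩ ⟨?_, ?_⟩
  · rw [Category.assoc, Category.assoc, hg, reassoc_of% hm]
  · rw [Category.assoc, hg]
  · rw [reassoc_of% hm]
  · rw [Category.assoc, hg']
  · rw [h, reassoc_of% hm]

/-- Existence on a chart. -/
theorem chart_exists [Algebra.IsIntegral R C] {B : CommRingCat.{u}} (j : Spec B ⟶ X) (hj : IsOpenImmersion j)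
    (v : pullback p sK ⟶ Spec (CommRingCat.of C)) (hv : v ≫ sC = pullback.fst p sK ≫ p) :
    ∃ g : Spec B ⟶ Spec (CommRingCat.of C), g ≫ sC = j ≫ p ∧ pullback.fst (j ≫ p) sK ≫ g =
      pullback.map (j ≫ p) sK p sK j (𝟙 _) (𝟙 _) (by simp) (by simp) ≫ v := by
  refine (existsUnique_affine K (j ≫ p) inferInstance _ ?_).exists
  rw [Category.assoc, hv, pullback.lift_fst_assoc, Category.assoc]

/-- Uniqueness. -/
theorem hom_ext [Algebra.IsIntegral R C] {g g' : X ⟶ Spec (CommRingCat.of C)} (hg : g ≫ sC = p)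
    (hg' : g' ≫ sC = p) (h : pullback.fst p sK ≫ g = pullback.fst p sK ≫ g') : g = g' :=
  Scheme.Cover.hom_ext X.affineCover _ _ fun i =>
    chart_ext K p (X.affineCover.f i) (X.affineCover.map_prop i) hg hg' h

/-- Existence. -/
theorem exists_hom [Algebra.IsIntegral R C] (v : pullback p sK ⟶ Spec (CommRingCat.of C))
    (hv : v ≫ sC = pullback.fst p sK ≫ p) :
    ∃ g : X ⟶ Spec (CommRingCat.of C), g ≫ sC = p ∧ pullback.fst p sK ≫ g = v := by
  let 𝒰 := X.affineCover
  have hoi : ∀ i, IsOpenImmersion (𝒰.f i) := fun i => 𝒰.map_prop i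
  have hsmi : ∀ i, Smooth (𝒰.f i ≫ p) := fun i => have := hoi i; inferInstance
  let m (i : 𝒰.I₀) : pullback (𝒰.f i ≫ p) sK ⟶ pullback p sK :=
    pullback.map _ _ _ _ (𝒰.f i) (𝟙 _) (𝟙 _) (by simp) (by simp)
  have hm (i : 𝒰.I₀) : m i ≫ pullback.fst p sK = pullback.fst (𝒰.f i ≫ p) sK ≫ 𝒰.f i :=
    pullback.lift_fst _ _ _
  obtain ⟨g, hg⟩ : ∃ g : ∀ i, 𝒰.X i ⟶ Spec (CommRingCat.of C),
      ∀ i, g i ≫ sC = 𝒰.f i ≫ p ∧ pullback.fst (𝒰.f i ≫ p) sK ≫ g i = m i ≫ v :=
    ⟨fun i => (chart_exists K p (𝒰.f i) (hoi i) v hv).choose,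
      fun i => (chart_exists K p (𝒰.f i) (hoi i) v hv).choose_spec⟩
  have hcompat : ∀ i j, pullback.fst (𝒰.f i) (𝒰.f j) ≫ g i = pullback.snd _ _ ≫ g j := by
    intro i j
    let P := pullback (𝒰.f i) (𝒰.f j)
    let q : P ⟶ Spec (CommRingCat.of R) := pullback.fst (𝒰.f i) (𝒰.f j) ≫ 𝒰.f i ≫ p
    have : Smooth q := inferInstance
    have hq : pullback.snd (𝒰.f i) (𝒰.f j) ≫ 𝒰.f j ≫ p = q := by
      rw [← Category.assoc, ← pullback.condition, Category.assoc]
    refine hom_ext K q (by rw [Category.assoc, (hg i).1]) (by rw [Category.assoc, (hg j).1, hq]) ?_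
    let m₁ : pullback q sK ⟶ pullback (𝒰.f i ≫ p) sK :=
      pullback.map _ _ _ _ (pullback.fst (𝒰.f i) (𝒰.f j)) (𝟙 _) (𝟙 _) (by simp [q]) (by simp)
    let m₂ : pullback q sK ⟶ pullback (𝒰.f j ≫ p) sK :=
      pullback.map _ _ _ _ (pullback.snd (𝒰.f i) (𝒰.f j)) (𝟙 _) (𝟙 _) (by simp [← hq]) (by simp)
    have h1 : m₁ ≫ pullback.fst (𝒰.f i ≫ p) sK = pullback.fst q sK ≫ pullback.fst (𝒰.f i) (𝒰.f j) :=
      pullback.lift_fst _ _ _
    have h2 : m₂ ≫ pullback.fst (𝒰.f j ≫ p) sK = pullback.fst q sK ≫ pullback.snd (𝒰.f i) (𝒰.f j) :=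
      pullback.lift_fst _ _ _
    have h12 : m₁ ≫ m i = m₂ ≫ m j := by
      apply pullback.hom_ext
      · rw [Category.assoc, Category.assoc, hm, hm, reassoc_of% h1, reassoc_of% h2, pullback.condition]
      · simp only [Category.assoc, m₁, m₂, m, pullback.map, pullback.lift_snd, pullback.lift_snd_assoc,
          Category.comp_id]
    rw [← reassoc_of% h1, ← reassoc_of% h2, (hg i).2, (hg j).2, reassoc_of% h12]
  refine ⟨𝒰.glueMorphisms g hcompat, ?_, ?_⟩
  · refine Scheme.Cover.hom_ext 𝒰 _ _ fun i => ?_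
    rw [Scheme.Cover.ι_glueMorphisms_assoc, (hg i).1]
  · refine Scheme.Cover.hom_ext (𝒰.pullback₁ (pullback.fst p sK)) _ _ fun i => ?_
    show pullback.fst (pullback.fst p sK) (𝒰.f i) ≫ pullback.fst p sK ≫ 𝒰.glueMorphisms g hcompat =
      pullback.fst (pullback.fst p sK) (𝒰.f i) ≫ v
    let z : pullback (pullback.fst p sK) (𝒰.f i) ⟶ pullback (𝒰.f i ≫ p) sK :=
      pullback.lift (pullback.snd _ _) (pullback.fst _ _ ≫ pullback.snd p sK) (by
        rw [← Category.assoc, ← pullback.condition, Category.assoc, Category.assoc, pullback.condition])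
    have hz : z ≫ m i = pullback.fst (pullback.fst p sK) (𝒰.f i) := by
      apply pullback.hom_ext
      · rw [Category.assoc, hm, pullback.lift_fst_assoc, pullback.condition]
      · simp only [z, m, Category.assoc, pullback.map, pullback.lift_snd, Category.comp_id]
    have hz' : z ≫ pullback.fst (𝒰.f i ≫ p) sK = pullback.snd _ _ := pullback.lift_fst _ _ _
    rw [pullback.condition_assoc, Scheme.Cover.ι_glueMorphisms, ← hz', Category.assoc, (hg i).2,
      reassoc_of% hz]

/-- The image of a smooth scheme lies in the étale locus. -/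
theorem mem_etaleLocus [Module.Finite R C] [Algebra.FinitePresentation R C] [Module.Flat R C]
    (hdvr : ∀ (q : Ideal C) [q.IsPrime], q.comap (algebraMap R C) ≠ ⊥ →
      ∃ _ : IsDomain (Localization.AtPrime q), IsDiscreteValuationRing (Localization.AtPrime q))
    (hgen : ∀ (q : Ideal C) [q.IsPrime], q.comap (algebraMap R C) = ⊥ → Algebra.IsEtaleAt R q)
    (g : X ⟶ Spec (CommRingCat.of C)) (hg : g ≫ sC = p) (x : X) :
    (show PrimeSpectrum C from g.base x) ∈ Algebra.etaleLocus R C := by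
  obtain ⟨B, j, hj, ⟨z, rfl⟩, -⟩ : ∃ (B : CommRingCat.{u}) (j : Spec B ⟶ X), IsOpenImmersion j ∧
      x ∈ Set.range j.base ∧ True :=
    ⟨_, X.affineCover.f (X.affineCover.idx x), X.affineCover.map_prop _, X.affineCover.covers x, trivial⟩
  obtain ⟨φ, hφ⟩ := Spec.map_surjective (j ≫ g)
  have hsm : Smooth (Spec.map φ ≫ sC) := by rw [hφ, Category.assoc, hg]; infer_instance
  rw [← Spec.map_comp, HasRingHomProperty.Spec_iff (P := @Smooth)] at hsm
  algebraize [(CommRingCat.ofHom (algebraMap R C) ≫ φ).hom]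
  let φ' : C →ₐ[R] B := { φ.hom with commutes' := fun r => rfl }
  rw [Algebra.mem_etaleLocus_iff]
  have hy : g.base (j.base z) = (Spec.map φ).base z := by
    rw [← Scheme.Hom.comp_apply, ← hφ]
  simp only [hy]
  let P : Ideal B := z.asIdeal
  have : P.IsPrime := z.isPrime
  show Algebra.IsEtaleAt R (P.comap φ'.toRingHom)
  by_cases hp : (P.comap φ'.toRingHom).comap (algebraMap R C) = ⊥
  · exact hgen _ hp
  · obtain ⟨h1, h2⟩ := hdvr _ hp
    have hP : P.under R = (P.comap φ'.toRingHom).comap (algebraMap R C) := by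
      rw [Ideal.under_def, Ideal.comap_comap]
      rfl
    have : (P.under R).IsMaximal := (Ideal.IsPrime.under R P).isMaximal (hP ▸ hp)
    exact EtaleAt.isEtaleAt φ' P (P.under R) (hP ▸ hp)

end Groth.Agent.Lib.NeronEtale.Mapping
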