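import Groth.Agent.Lib.NeronEtale.Mapping

/-!
# The étale locus of the normalisation has the Néron mapping property
-/

set_option autoImplicit false
universe u

open CategoryTheory CategoryTheory.Limits AlgebraicGeometry
open scoped nonZeroDivisors

namespace Groth.Agent.Lib.NeronEtale.Model

variable {R : Type u} [CommRing R] [IsDedekindDomain R] (K : Type u) [Field K] [Algebra R K]
  [IsFractionRing R K]

/-- Existence of the model. -/
theorem exists_model (C A : Type u) [CommRing C] [Algebra R C] [CommRing A] [Algebra R A] [Algebra K A]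
    [IsScalarTower R K A] [Algebra C A] [IsScalarTower R C A] [Module.Finite R C]
    [Algebra.FinitePresentation R C] [Module.Flat R C]
    [IsLocalization (Algebra.algebraMapSubmonoid C R⁰) A]
    (hdvr : ∀ (q : Ideal C) [q.IsPrime], q.comap (algebraMap R C) ≠ ⊥ →
      ∃ _ : IsDomain (Localization.AtPrime q), IsDiscreteValuationRing (Localization.AtPrime q))
    (hgen : ∀ (q : Ideal C) [q.IsPrime], q.comap (algebraMap R C) = ⊥ → Algebra.IsEtaleAt R q) :
    ∃ (N : Over (Spec (CommRingCat.of R))) (ι : Spec (CommRingCat.of A) ⟶ N.left),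
      IsPullback ι (Spec.map (CommRingCat.ofHom (algebraMap K A))) N.hom
          (Spec.map (CommRingCat.ofHom (algebraMap R K))) ∧
      Etale N.hom ∧ IsSeparated N.hom ∧ QuasiCompact N.hom ∧
      ∀ (X : Scheme.{u}) (p : X ⟶ Spec (CommRingCat.of R)) [Smooth p]
        (v : pullback p (Spec.map (CommRingCat.ofHom (algebraMap R K))) ⟶ N.left),
        v ≫ N.hom = pullback.fst _ _ ≫ p →
          ∃! g : X ⟶ N.left, g ≫ N.hom = p ∧ pullback.fst _ _ ≫ g = v := by
  let sC := Spec.map (CommRingCat.ofHom (algebraMap R C))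
  let sK := Spec.map (CommRingCat.ofHom (algebraMap R K))
  let U : (Spec (CommRingCat.of C)).Opens := ⟨Algebra.etaleLocus R C, Algebra.isOpen_etaleLocus⟩
  have : IsNoetherianRing C := Algebra.FiniteType.isNoetherianRing R C
  -- the generic fibre lands in the étale locus
  have : IsLocalization ((R⁰ : Submonoid R).map (algebraMap R C)) A :=
    inferInstanceAs (IsLocalization (Algebra.algebraMapSubmonoid C R⁰) A)
  have hpo := CommRingCat.isPushout_of_isLocalization (algebraMap R C) (algebraMap K A)
    (by rw [← IsScalarTower.algebraMap_eq, ← IsScalarTower.algebraMap_eq]) (R⁰ : Submonoid R)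
    (Rₘ := K) (Sₘ := A)
  have hpb := isPullback_SpecMap_of_isPushout _ _ _ _ hpo
  let j := Spec.map (CommRingCat.ofHom (algebraMap C A))
  have hrange : Set.range j.base ⊆ Set.range U.ι.base := by
    rintro _ ⟨P, rfl⟩
    rw [Scheme.Opens.range_ι]
    let P' : PrimeSpectrum A := P
    show Algebra.IsEtaleAt R (P'.asIdeal.comap (algebraMap C A))
    refine hgen _ ?_
    rw [Ideal.comap_comap, ← IsScalarTower.algebraMap_eq, IsScalarTower.algebraMap_eq R K A,
      ← Ideal.comap_comap, eq_bot_iff]
    intro r hr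
    rw [Ideal.mem_comap] at hr
    rcases (P'.asIdeal.comap (algebraMap K A)).eq_bot_or_top with h | h
    · rw [h, Ideal.mem_bot, ← map_zero (algebraMap R K)] at hr
      exact IsFractionRing.injective R K hr
    · exact absurd h (Ideal.comap_ne_top _ P'.isPrime.ne_top)
  let ι := IsOpenImmersion.lift U.ι j hrange
  have hι : ι ≫ U.ι = j := IsOpenImmersion.lift_fac _ _ _
  have : Etale (U.ι ≫ sC) := by
    let J := {f : C // ↑(PrimeSpectrum.basicOpen f) ⊆ Algebra.etaleLocus R C}
    let jf (f : J) : Spec (CommRingCat.of (Localization.Away f.1)) ⟶ Spec (CommRingCat.of C) :=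
      Spec.map (CommRingCat.ofHom (algebraMap C (Localization.Away f.1)))
    have hjf (f : J) : IsOpenImmersion (jf f) := IsOpenImmersion.of_isLocalization f.1
    have hrf (f : J) : Set.range (jf f).base ⊆ Set.range U.ι.base := by
      rw [Scheme.Opens.range_ι]
      exact (PrimeSpectrum.localization_away_comap_range _ f.1).le.trans f.2
    let 𝒰 : U.toScheme.OpenCover := Scheme.Cover.mkOfCovers J _
      (fun f => IsOpenImmersion.lift U.ι (jf f) (hrf f))
      (fun x => by
        obtain ⟨_, ⟨f', rfl⟩, hxf, hsub⟩ := PrimeSpectrum.isTopologicalBasis_basic_opens.exists_subset_of_mem_open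
          (x.2 : (x.1 : PrimeSpectrum C) ∈ Algebra.etaleLocus R C) Algebra.isOpen_etaleLocus
        obtain ⟨y, hy⟩ := (PrimeSpectrum.localization_away_comap_range (Localization.Away f') f').ge hxf
        refine ⟨⟨f', hsub⟩, y, U.ι.injective ?_⟩
        rw [← Scheme.Hom.comp_apply, IsOpenImmersion.lift_fac]
        exact hy)
      (fun f => by
        have := hjf f
        have : IsOpenImmersion (IsOpenImmersion.lift U.ι (jf f) (hrf f) ≫ U.ι) := by
          rw [IsOpenImmersion.lift_fac]; exact hjf f
        exact IsOpenImmersion.of_comp _ U.ι)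
    refine IsZariskiLocalAtSource.of_openCover (P := @Etale) 𝒰 fun f => ?_
    show Etale (IsOpenImmersion.lift U.ι (jf f) (hrf f) ≫ U.ι ≫ sC)
    rw [IsOpenImmersion.lift_fac_assoc, ← Spec.map_comp, HasRingHomProperty.Spec_iff (P := @Etale)]
    have : Algebra.Etale R (Localization.Away f.1) :=
      Algebra.basicOpen_subset_etaleLocus_iff_etale.mp f.2
    rw [← CommRingCat.ofHom_comp, ← IsScalarTower.algebraMap_eq]
    exact RingHom.etale_algebraMap.mpr this
  refine ⟨Over.mk (U.ι ≫ sC), ι, ?_, this, inferInstanceAs (IsSeparated (U.ι ≫ sC)),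
    inferInstanceAs (QuasiCompact (U.ι ≫ sC)), fun X p _ v hv => ?_⟩
  · refine IsPullback.of_isLimit' ⟨by
      show ι ≫ U.ι ≫ sC = _
      rw [reassoc_of% hι]
      exact hpb.w⟩ (PullbackCone.IsLimit.mk _ (fun s => hpb.lift (s.fst ≫ U.ι) s.snd (by
        rw [Category.assoc]; exact s.condition)) (fun s => ?_) (fun s => hpb.lift_snd _ _ _)
        (fun s m h1 h2 => ?_))
    · rw [← cancel_mono U.ι, Category.assoc, hι]
      exact hpb.lift_fst _ _ _
    · refine hpb.hom_ext ?_ ?_
      · rw [hpb.lift_fst, ← h1, Category.assoc, hι]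
      · rw [hpb.lift_snd, h2]
  · have : Algebra.IsIntegral R C := Algebra.IsIntegral.of_finite R C
    have hv' : (v ≫ U.ι) ≫ sC = pullback.fst p sK ≫ p := by rw [Category.assoc]; exact hv
    obtain ⟨g, hg1, hg2⟩ := Mapping.exists_hom K p (v ≫ U.ι) hv'
    have hgU : Set.range g.base ⊆ Set.range U.ι.base := by
      rintro _ ⟨x, rfl⟩
      rw [Scheme.Opens.range_ι]
      exact Mapping.mem_etaleLocus p hdvr hgen g hg1 x
    refine ⟨IsOpenImmersion.lift U.ι g hgU, ⟨?_, ?_⟩, fun g' ⟨h1, h2⟩ => ?_⟩
    · show _ ≫ U.ι ≫ sC = p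
      rw [IsOpenImmersion.lift_fac_assoc, hg1]
    · rw [← cancel_mono U.ι, Category.assoc, IsOpenImmersion.lift_fac, hg2]
    · rw [← cancel_mono U.ι, IsOpenImmersion.lift_fac]
      refine Mapping.hom_ext K p (by rw [Category.assoc]; exact h1) hg1 ?_
      rw [hg2, ← Category.assoc, h2]

end Groth.Agent.Lib.NeronEtale.Model
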